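import Cfsg.Agent.Lib.Helper56.RuQ.ChkP0
import Cfsg.Agent.Lib.Helper56.RuQ.ChkP1
import Cfsg.Agent.Lib.Helper56.RuQ.ChkP2
import Cfsg.Agent.Lib.Helper56.RuQ.ChkP3
import Cfsg.Agent.Lib.Helper56.RuQ.ChkP4
import Cfsg.Agent.Lib.Helper56.RuQ.ChkP5
import Cfsg.Agent.Lib.Helper56.RuQ.ChkP6
import Cfsg.Agent.Lib.Helper56.RuQ.ChkP7
import Cfsg.Agent.Lib.Helper56.RuQ.ChkP8
import Cfsg.Agent.Lib.Helper56.RuQ.ChkP9
import Cfsg.Agent.Lib.Helper56.RuQ.ChkP10
import Cfsg.Agent.Lib.Helper56.RuQ.ChkP11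
import Cfsg.Agent.Lib.Helper56.RuQ.ChkP12
import Cfsg.Agent.Lib.Helper56.RuQ.ChkP13
import Cfsg.Agent.Lib.Helper56.RuQ.ChkP14
import Cfsg.Agent.Lib.Helper56.RuQ.ChkP15
import Cfsg.Agent.Lib.Helper56.RuQ.ChkP16
import Cfsg.Agent.Lib.Helper56.RuQ.ChkP17
import Cfsg.Agent.Lib.Helper56.RuQ.ChkP18
import Cfsg.Agent.Lib.Helper56.RuQ.ChkP19
import Cfsg.Agent.Lib.Helper56.RuQ.ChkP20
import Cfsg.Agent.Lib.Helper56.RuQ.ChkP21
import Cfsg.Agent.Lib.Helper56.RuQ.ChkP22
import Cfsg.Agent.Lib.Helper56.RuQ.ChkP23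
import Cfsg.Agent.Lib.Helper56.RuQ.ChkP24
import Cfsg.Agent.Lib.Helper56.RuQ.ChkP25
import Cfsg.Agent.Lib.Helper56.RuQ.ChkP26
import Cfsg.Agent.Lib.Helper56.RuQ.ChkP27
import Cfsg.Agent.Lib.Helper56.RuQ.ChkP28
import Cfsg.Agent.Lib.Helper56.RuQ.ChkP29
import Cfsg.Agent.Lib.Helper56.RuQ.ChkP30
import Cfsg.Agent.Lib.Helper56.RuQ.ChkP31
import Cfsg.Agent.Lib.Helper56.RuQ.ChkF0
import Cfsg.Agent.Lib.Helper56.RuQ.ChkF1
import Cfsg.Agent.Lib.Helper56.RuQ.ChkF2
import Cfsg.Agent.Lib.Helper56.RuQ.ChkF3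
import Cfsg.Agent.Lib.Helper56.RuQ.ChkF4
import Cfsg.Agent.Lib.Helper56.RuQ.ChkF5
import Cfsg.Agent.Lib.Helper56.RuQ.ChkF6
import Cfsg.Agent.Lib.Helper56.RuQ.ChkF7
import Cfsg.Agent.Lib.Helper56.RuQ.ChkF8
import Cfsg.Agent.Lib.Helper56.RuQ.ChkF9
import Cfsg.Agent.Lib.Helper56.RuQ.ChkF10
import Cfsg.Agent.Lib.Helper56.RuQ.ChkF11
import Cfsg.Agent.Lib.Helper56.RuQ.ChkF12
import Cfsg.Agent.Lib.Helper56.RuQ.ChkC0
import Cfsg.Agent.Lib.Helper56.RuQ.ChkC1
import Cfsg.Agent.Lib.Helper56.RuQ.ChkC2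
import Cfsg.Agent.Lib.Helper56.RuQ.ChkC3
import Cfsg.Agent.Lib.Helper56.RuQ.ChkC4
import Cfsg.Agent.Lib.Helper56.RuQ.ChkC5
import Cfsg.Agent.Lib.Helper56.RuQ.ChkC6
import Cfsg.Agent.Lib.Helper56.RuQ.ChkC7

set_option autoImplicit false
set_option linter.unusedVariables false

namespace Cfsg.Agent.Lib.Helper56.RuQ

open Cfsg.Agent.Lib.Helper28.TC

noncomputable section

def NNpad : ℕ := 13312
theorem permP_all : ∀ i, i < nn → permP i = true := by
  refine all_of_blocks nn permP 8 32 (by decide) ?_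
  intro k hk
  interval_cases k
  · exact permP_blk0
  · exact permP_blk1
  · exact permP_blk2
  · exact permP_blk3
  · exact permP_blk4
  · exact permP_blk5
  · exact permP_blk6
  · exact permP_blk7
  · exact permP_blk8
  · exact permP_blk9
  · exact permP_blk10
  · exact permP_blk11
  · exact permP_blk12
  · exact permP_blk13
  · exact permP_blk14
  · exact permP_blk15
  · exact permP_blk16
  · exact permP_blk17
  · exact permP_blk18
  · exact permP_blk19
  · exact permP_blk20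
  · exact permP_blk21
  · exact permP_blk22
  · exact permP_blk23
  · exact permP_blk24
  · exact permP_blk25
  · exact permP_blk26
  · exact permP_blk27
  · exact permP_blk28
  · exact permP_blk29
  · exact permP_blk30
  · exact permP_blk31

theorem factP_all : ∀ i, i < NNpad → factP i = true := by
  refine allBlocks_spec factP 10 13 ?_
  intro k hk
  interval_cases k
  · exact factP_blk0
  · exact factP_blk1
  · exact factP_blk2
  · exact factP_blk3
  · exact factP_blk4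
  · exact factP_blk5
  · exact factP_blk6
  · exact factP_blk7
  · exact factP_blk8
  · exact factP_blk9
  · exact factP_blk10
  · exact factP_blk11
  · exact factP_blk12

theorem closedP_all : ∀ i, i < nn → closedP i = true := by
  refine all_of_blocks nn closedP 10 8 (by decide) ?_
  intro k hk
  interval_cases k
  · exact closedP_blk0
  · exact closedP_blk1
  · exact closedP_blk2
  · exact closedP_blk3
  · exact closedP_blk4
  · exact closedP_blk5
  · exact closedP_blk6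
  · exact closedP_blk7

theorem hotA_lt : hotA < 2 ^ (31 * 13312) := by decide +kernel
theorem hotE0_lt : hotE0 < 2 ^ (31 * 13312) := by decide +kernel
theorem hotE1_lt : hotE1 < 2 ^ (31 * 13312) := by decide +kernel
theorem hotE2_lt : hotE2 < 2 ^ (31 * 13312) := by decide +kernel
theorem hotE3_lt : hotE3 < 2 ^ (31 * 13312) := by decide +kernel
theorem hotE4_lt : hotE4 < 2 ^ (31 * 13312) := by decide +kernel
theorem hotE5_lt : hotE5 < 2 ^ (31 * 13312) := by decide +kernel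
theorem hotE6_lt : hotE6 < 2 ^ (31 * 13312) := by decide +kernel
theorem subFix : allList (fun w => Nat.beq (act tf w 0) 0) subWords = true := by decide +kernel

end

end Cfsg.Agent.Lib.Helper56.RuQ
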